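import Mathlib.LinearAlgebra.FreeModule.PID
import Mathlib.LinearAlgebra.Matrix.MvPolynomial
import Mathlib.RingTheory.MvPolynomial.Basic
import Mathlib.RingTheory.Localization.Away.Basic
import Mathlib.Algebra.DirectSum.Module
import Mathlib.RingTheory.PrincipalIdealDomain
import Mathlib.Order.CompactlyGenerated.Basic
import Mathlib.RingTheory.Localization.BaseChange
import Mathlib.RingTheory.TensorProduct.MvPolynomial
import Mathlib.RingTheory.TensorProduct.IsBaseChangeFree
import Mathlib.RingTheory.Localization.Integral
import Mathlib.LinearAlgebra.FreeModule.Basic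
import Mathlib.RingTheory.Polynomial.Basic
import Mathlib.Algebra.MvPolynomial.NoZeroDivisors

/-!
# `O(GL_n)` is a free module

G2a F (S16912 project): over a principal ideal domain `L` (and over every commutative ring) the coordinate ring of
`GL_n`, the localization of a polynomial ring in `n ^ 2` variables at the determinant, is a free `L`-module.
-/

set_option autoImplicit false

namespace Groth.Agent.ResProp.EF.K217

open MvPolynomial

section Filtration

variable {R M : Type*} [Ring R] [AddCommGroup M] [Module R M]

/-- A module with an exhaustive increasing sequence of submodules, the first one free and with free successive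
quotients, is free. -/
theorem free_of_filtration (F : ℕ → Submodule R M) (hmono : Monotone F) (hsup : ⨆ k, F k = ⊤)
    (h0 : Module.Free R (F 0))
    (hq : ∀ k, Module.Free R (↥(F (k + 1)) ⧸ (F k).submoduleOf (F (k + 1)))) :
    Module.Free R M := by
  classical
  -- a complement of `F k` in `F (k + 1)`
  have hC : ∀ k, ∃ C : Submodule R M, Module.Free R C ∧ Disjoint C (F k) ∧ F k ⊔ C = F (k + 1) := by
    intro k
    obtain ⟨s, hs⟩ := Module.projective_lifting_property
      ((F k).submoduleOf (F (k + 1))).mkQ (LinearMap.id) (Submodule.mkQ_surjective _)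
    have hs' : ∀ x, ((F k).submoduleOf (F (k + 1))).mkQ (s x) = x := fun x ↦ by
      rw [← LinearMap.comp_apply, hs, LinearMap.id_apply]
    let t : (↥(F (k + 1)) ⧸ (F k).submoduleOf (F (k + 1))) →ₗ[R] M := (F (k + 1)).subtype ∘ₗ s
    have ht : Function.Injective t := by
      intro x y hxy
      have h1 : s x = s y := Subtype.ext hxy
      rw [← hs' x, ← hs' y, h1]
    refine ⟨LinearMap.range t, ?_, ?_, ?_⟩
    · exact Module.Free.of_equiv (LinearEquiv.ofInjective t ht)
    · rw [Submodule.disjoint_def]
      rintro _ ⟨x, rfl⟩ hx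
      have h1 : ((F k).submoduleOf (F (k + 1))).mkQ (s x) = 0 := by
        rw [Submodule.mkQ_apply, Submodule.Quotient.mk_eq_zero]
        exact hx
      rw [hs'] at h1
      rw [h1, map_zero]
    · apply le_antisymm
      · refine sup_le (hmono (Nat.le_succ k)) ?_
        rintro _ ⟨x, rfl⟩
        exact (s x).2
      · intro y hy
        let y' : ↥(F (k + 1)) := ⟨y, hy⟩
        let x := ((F k).submoduleOf (F (k + 1))).mkQ y'
        have h1 : ((F k).submoduleOf (F (k + 1))).mkQ (y' - s x) = 0 := by
          rw [map_sub, hs', sub_self]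
        rw [Submodule.mkQ_apply, Submodule.Quotient.mk_eq_zero] at h1
        have h2 : y - t x ∈ F k := h1
        have h3 : y = (y - t x) + t x := by abel
        rw [h3]
        exact Submodule.add_mem_sup h2 ⟨x, rfl⟩
  choose C hCfree hCdis hCsup using hC
  obtain ⟨A, hA0, hAs⟩ : ∃ A : ℕ → Submodule R M, A 0 = F 0 ∧ ∀ k, A (k + 1) = C k :=
    ⟨fun k ↦ Nat.casesOn k (F 0) C, rfl, fun _ ↦ rfl⟩
  have hAfree : ∀ k : ℕ, Module.Free R (A k) := by
    intro k
    cases k with
    | zero => rw [hA0]; exact h0
    | succ k => rw [hAs]; exact hCfree k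
  have hpart : ∀ k, (Finset.range (k + 1)).sup A = F k := by
    intro k
    induction k with
    | zero => simp [hA0]
    | succ k ih =>
      rw [Finset.range_add_one, Finset.sup_insert, ih, hAs, sup_comm, hCsup]
  have hind : ∀ n, (Finset.range n).SupIndep A := by
    intro n
    induction n with
    | zero => exact Finset.supIndep_empty A
    | succ n ih =>
      rw [Finset.range_add_one]
      refine ih.insert ?_
      cases n with
      | zero => simp
      | succ n =>
        rw [hpart, hAs]
        exact hCdis n
  have hI : iSupIndep A := by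
    rw [iSupIndep_iff_supIndep]
    intro s
    obtain ⟨n, hn⟩ := s.exists_nat_subset_range
    exact (hind n).subset hn
  have htop : ⨆ k, A k = ⊤ := by
    rw [eq_top_iff, ← hsup]
    refine iSup_le fun k ↦ ?_
    rw [← hpart k]
    exact Finset.sup_le fun i _ ↦ le_iSup A i
  have hint := DirectSum.isInternal_submodule_of_iSupIndep_of_iSup_eq_top hI htop
  exact Module.Free.of_basis (hint.collectedBasis fun k ↦ Module.Free.chooseBasis R (A k))

end Filtration

section PID

variable {σ : Type*} [Finite σ] {L : Type*} [CommRing L] [IsDomain L] [IsPrincipalIdealRing L]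

omit [Finite σ] in
theorem exists_C_mul {d p q : MvPolynomial σ L}
    (hd : ∀ π : L, Prime π → ¬ C π ∣ d) {c : L} (hc : c ≠ 0) (h : C c * q = d * p) :
    ∃ p', p = C c * p' := by
  induction c using UniqueFactorizationMonoid.induction_on_prime generalizing p q with
  | h₁ => exact absurd rfl hc
  | h₂ u hu =>
    obtain ⟨v, hv⟩ := hu.exists_right_inv
    exact ⟨C v * p, by rw [← mul_assoc, ← C_mul, hv, C_1, one_mul]⟩
  | h₃ a π ha hπ ih =>
    have h1 : (C π : MvPolynomial σ L) ∣ d * p := ⟨C a * q, by rw [← h, C_mul, mul_assoc]⟩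
    have hπ' : Prime (C π : MvPolynomial σ L) := (MvPolynomial.prime_C_iff σ).mpr hπ
    obtain ⟨p₁, rfl⟩ := (hπ'.dvd_or_dvd h1).resolve_left (hd π hπ)
    have h2 : C a * q = d * p₁ := by
      apply mul_left_cancel₀ (hπ'.ne_zero)
      rw [← mul_assoc, ← C_mul, h]
      ring
    obtain ⟨p₂, rfl⟩ := ih ha h2
    exact ⟨p₂, by rw [C_mul]; ring⟩

/-- The localization of a polynomial ring in finitely many variables over a PID `L` at one element `d` which is not
divisible by a prime of `L` is a free `L`-module. -/
theorem free_away (d : MvPolynomial σ L) (hd : ∀ π : L, Prime π → ¬ C π ∣ d)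
    (S : Type*) [CommRing S] [Algebra (MvPolynomial σ L) S] [IsLocalization.Away d S] [Algebra L S]
    [IsScalarTower L (MvPolynomial σ L) S] : Module.Free L S := by
  by_cases hd0 : d = 0
  · subst hd0
    have : Subsingleton S := IsLocalization.subsingleton (M := Submonoid.powers (0 : MvPolynomial σ L))
      (Submonoid.mem_powers 0)
    infer_instance
  have hle : Submonoid.powers d ≤ nonZeroDivisors (MvPolynomial σ L) :=
    powers_le_nonZeroDivisors_of_noZeroDivisors hd0
  have hinj : Function.Injective (algebraMap (MvPolynomial σ L) S) :=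
    IsLocalization.injective S hle
  let v : S := IsLocalization.Away.invSelf d
  have hv : algebraMap (MvPolynomial σ L) S d * v = 1 := IsLocalization.Away.mul_invSelf d
  have hv' : ∀ k, algebraMap (MvPolynomial σ L) S d ^ k * v ^ k = 1 := fun k ↦ by
    rw [← mul_pow, hv, one_pow]
  let D := d.totalDegree
  let φ : ℕ → (MvPolynomial σ L →ₗ[L] S) := fun k ↦
    (LinearMap.mulLeft L (v ^ k)) ∘ₗ ((IsScalarTower.toAlgHom L (MvPolynomial σ L) S).toLinearMap)
  have hφ : ∀ k p, φ k p = v ^ k * algebraMap (MvPolynomial σ L) S p := fun k p ↦ rfl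
  have hφinj : ∀ k, Function.Injective (φ k) := by
    intro k p q hpq
    rw [hφ, hφ] at hpq
    apply hinj
    have := congrArg (fun z ↦ algebraMap (MvPolynomial σ L) S d ^ k * z) hpq
    simpa only [← mul_assoc, hv', one_mul] using this
  have hφs : ∀ k p, φ (k + 1) (d * p) = φ k p := by
    intro k p
    rw [hφ, hφ, map_mul, pow_succ, mul_assoc, ← mul_assoc v, mul_comm v, hv, one_mul]
  let F : ℕ → Submodule L S := fun k ↦ (restrictTotalDegree σ L (k * (D + 1))).map (φ k)
  have hFmem : ∀ k z, z ∈ F k ↔ ∃ p : MvPolynomial σ L, p.totalDegree ≤ k * (D + 1) ∧ φ k p = z := by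
    intro k z
    simp only [F, Submodule.mem_map, mem_restrictTotalDegree]
  have hmono : Monotone F := by
    apply monotone_nat_of_le_succ
    intro k z hz
    rw [hFmem] at hz ⊢
    obtain ⟨p, hp, rfl⟩ := hz
    refine ⟨d * p, ?_, hφs k p⟩
    calc (d * p).totalDegree ≤ d.totalDegree + p.totalDegree := totalDegree_mul d p
      _ ≤ D + k * (D + 1) := by gcongr
      _ ≤ (k + 1) * (D + 1) := by ring_nf; omega
  have hφpow : ∀ k j p, φ (k + j) (d ^ j * p) = φ k p := by
    intro k j p
    induction j with
    | zero => simp
    | succ j ih => rw [pow_succ', mul_assoc, ← Nat.add_assoc, hφs, ih]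
  have hsup : ⨆ k, F k = ⊤ := by
    rw [eq_top_iff]
    intro z _
    obtain ⟨k, p, hp⟩ := IsLocalization.Away.surj d z
    have hz : z = φ k p := by
      rw [hφ, ← hp, mul_comm z, ← mul_assoc, mul_comm (v ^ k), hv', one_mul]
    have hz2 : z ∈ F (k + p.totalDegree) := by
      rw [hFmem]
      refine ⟨d ^ p.totalDegree * p, ?_, ?_⟩
      · calc (d ^ p.totalDegree * p).totalDegree ≤ (d ^ p.totalDegree).totalDegree + p.totalDegree :=
              totalDegree_mul _ _
          _ ≤ p.totalDegree * D + p.totalDegree := by
              gcongr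
              exact totalDegree_pow _ _
          _ ≤ (k + p.totalDegree) * (D + 1) := by
              nlinarith [Nat.zero_le (k * (D + 1))]
      · rw [hφpow, hz]
    exact (le_iSup F _) hz2
  have hfin : ∀ k, Module.Finite L (F k) := fun k ↦ by
    have : Module.Finite L (restrictTotalDegree σ L (k * (D + 1))) := inferInstance
    exact Module.Finite.map _ _
  have htf : ∀ k, Module.IsTorsionFree L (F k) := by
    intro k
    have e : restrictTotalDegree σ L (k * (D + 1)) ≃ₗ[L] F k :=
      Submodule.equivMapOfInjective (φ k) (hφinj k) _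
    exact e.symm.injective.moduleIsTorsionFree _ (by intro c x; simp)
  refine free_of_filtration F hmono hsup ?_ ?_
  · exact Module.free_of_finite_type_torsion_free'
  · intro k
    have hf : Module.Finite L (↥(F (k + 1)) ⧸ (F k).submoduleOf (F (k + 1))) := by
      have := hfin (k + 1)
      infer_instance
    have ht : Module.IsTorsionFree L (↥(F (k + 1)) ⧸ (F k).submoduleOf (F (k + 1))) := by
      rw [Module.isTorsionFree_iff_smul_eq_zero]
      intro c x hcx
      by_cases hc : c = 0
      · exact Or.inl hc
      right
      induction x using Submodule.Quotient.induction_on with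
      | H x =>
      obtain ⟨z, hz⟩ := x
      rw [← Submodule.Quotient.mk_smul, Submodule.Quotient.mk_eq_zero] at hcx
      rw [Submodule.Quotient.mk_eq_zero]
      have h1 : c • z ∈ F k := hcx
      change z ∈ F k
      rw [hFmem] at h1 hz ⊢
      obtain ⟨q, hq, rfl⟩ := hz
      obtain ⟨p, hp, hpq⟩ := h1
      have h2 : C c * q = d * p := by
        apply hφinj (k + 1)
        rw [hφs, hpq, ← smul_eq_C_mul, map_smul]
      obtain ⟨p', rfl⟩ := exists_C_mul hd hc h2
      have hCc : (C c : MvPolynomial σ L) ≠ 0 := by
        rw [Ne, C_eq_zero]; exact hc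
      have h3 : q = d * p' := by
        apply mul_left_cancel₀ hCc
        rw [h2]; ring
      refine ⟨p', ?_, ?_⟩
      · refine le_trans (le_of_eq ?_) hp
        by_cases hp' : p' = 0
        · simp [hp']
        rw [totalDegree_mul_of_isDomain hCc hp', totalDegree_C, zero_add]
      · rw [h3, hφs]
    exact Module.free_of_finite_type_torsion_free'

end PID

section GL

/-- the generic determinant has the value `1` at the unit matrix, so it is not divisible by a prime -/
theorem not_C_dvd_det (n : ℕ) {L : Type*} [CommRing L] (π : L) (hπ : Prime π) :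
    ¬ (C π : MvPolynomial (Fin n × Fin n) L) ∣
      Matrix.det (Matrix.of fun i j ↦ (MvPolynomial.X (i, j) : MvPolynomial (Fin n × Fin n) L)) := by
  rintro ⟨q, hq⟩
  have h1 : MvPolynomial.eval (fun p : Fin n × Fin n ↦ (1 : Matrix (Fin n) (Fin n) L) p.1 p.2)
      (Matrix.det (Matrix.of fun i j ↦ (MvPolynomial.X (i, j) : MvPolynomial (Fin n × Fin n) L))) = 1 := by
    have := Matrix.mvPolynomialX_mapMatrix_eval (1 : Matrix (Fin n) (Fin n) L)
    have h2 := congrArg Matrix.det this
    rw [Matrix.det_one, ← RingHom.map_det] at h2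
    exact h2
  rw [hq, map_mul, eval_C] at h1
  exact hπ.not_isUnit (IsUnit.of_mul_eq_one _ h1)

/-- `O(GL_n)` is free over a principal ideal domain `L`. -/
theorem free_GL_of_pid (n : ℕ) {L : Type*} [CommRing L] [IsDomain L] [IsPrincipalIdealRing L] :
    Module.Free L (Localization.Away
      (Matrix.det (Matrix.of fun i j ↦ (MvPolynomial.X (i, j) : MvPolynomial (Fin n × Fin n) L)))) :=
  free_away _ (fun π hπ ↦ not_C_dvd_det n π hπ) _

attribute [local instance] MvPolynomial.algebraMvPolynomial

/-- `O(GL_n)` (any model of the localization) is free over every algebra `L` over a principal ideal domain `K`. -/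
theorem free_GL_of_algebra (n : ℕ) (K : Type*) [CommRing K] [IsDomain K] [IsPrincipalIdealRing K]
    (L : Type*) [CommRing L] [Algebra K L] (S : Type*) [CommRing S]
    [Algebra (MvPolynomial (Fin n × Fin n) L) S] [Algebra L S]
    [IsScalarTower L (MvPolynomial (Fin n × Fin n) L) S]
    [h : IsLocalization.Away
      (Matrix.det (Matrix.of fun i j ↦ (MvPolynomial.X (i, j) : MvPolynomial (Fin n × Fin n) L))) S] :
    Module.Free L S := by
  let dZ : MvPolynomial (Fin n × Fin n) K :=
    Matrix.det (Matrix.of fun i j ↦ (MvPolynomial.X (i, j) : MvPolynomial (Fin n × Fin n) K))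
  have hd : algebraMap (MvPolynomial (Fin n × Fin n) K) (MvPolynomial (Fin n × Fin n) L) dZ =
      Matrix.det (Matrix.of fun i j ↦ (MvPolynomial.X (i, j) : MvPolynomial (Fin n × Fin n) L)) := by
    rw [RingHom.map_det]
    congr 1
    ext1 i j
    exact MvPolynomial.map_X _ _
  have hloc : IsLocalization (Algebra.algebraMapSubmonoid (MvPolynomial (Fin n × Fin n) L)
      (Submonoid.powers dZ)) S := by
    rw [Algebra.algebraMapSubmonoid_powers, hd]
    exact h
  let _ : Algebra K S := ((algebraMap L S).comp (algebraMap K L)).toAlgebra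
  have : IsScalarTower K L S := .of_algebraMap_eq' rfl
  let _ : Algebra (MvPolynomial (Fin n × Fin n) K) S :=
    ((algebraMap (MvPolynomial (Fin n × Fin n) L) S).comp
      (algebraMap (MvPolynomial (Fin n × Fin n) K) (MvPolynomial (Fin n × Fin n) L))).toAlgebra
  have h5 : IsScalarTower (MvPolynomial (Fin n × Fin n) K) (MvPolynomial (Fin n × Fin n) L) S :=
    .of_algebraMap_eq' rfl
  have h6 : IsScalarTower K (MvPolynomial (Fin n × Fin n) L) S := by
    refine .of_algebraMap_eq fun x ↦ ?_
    rw [IsScalarTower.algebraMap_apply K L S, IsScalarTower.algebraMap_apply K L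
      (MvPolynomial (Fin n × Fin n) L), ← IsScalarTower.algebraMap_apply L]
  have h7 : IsScalarTower K (MvPolynomial (Fin n × Fin n) K) S := by
    refine .of_algebraMap_eq fun x ↦ ?_
    rw [IsScalarTower.algebraMap_apply (MvPolynomial (Fin n × Fin n) K)
      (MvPolynomial (Fin n × Fin n) L) S, ← IsScalarTower.algebraMap_apply K
      (MvPolynomial (Fin n × Fin n) K), ← IsScalarTower.algebraMap_apply K]
  let _ : Algebra (Localization.Away dZ) S :=
    localizationAlgebra (Submonoid.powers dZ) (MvPolynomial (Fin n × Fin n) L)
  have h8 : IsScalarTower (MvPolynomial (Fin n × Fin n) K) (Localization.Away dZ) S :=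
    isScalarTower_localizationAlgebra (Submonoid.powers dZ) (MvPolynomial (Fin n × Fin n) L)
  have h9 : IsScalarTower K (Localization.Away dZ) S := by
    refine .of_algebraMap_eq fun x ↦ ?_
    rw [IsScalarTower.algebraMap_apply K (MvPolynomial (Fin n × Fin n) K) (Localization.Away dZ),
      ← IsScalarTower.algebraMap_apply (MvPolynomial (Fin n × Fin n) K),
      ← IsScalarTower.algebraMap_apply K]
  have : Algebra.IsPushout (MvPolynomial (Fin n × Fin n) K) (Localization.Away dZ)
      (MvPolynomial (Fin n × Fin n) L) S :=
    (Algebra.isPushout_of_isLocalization (Submonoid.powers dZ) (Localization.Away dZ)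
      (MvPolynomial (Fin n × Fin n) L) S).symm
  have h1 : Algebra.IsPushout K (Localization.Away dZ) L S :=
    (Algebra.IsPushout.comp_iff K (MvPolynomial (Fin n × Fin n) K) L
      (MvPolynomial (Fin n × Fin n) L)).mpr inferInstance
  have h2 : Algebra.IsPushout K L (Localization.Away dZ) S := h1.symm
  have : Module.Free K (Localization.Away dZ) := free_GL_of_pid n
  exact Module.Free.of_basis (h2.out.basis (Module.Free.chooseBasis K (Localization.Away dZ)))

/-- `O(GL_n)` (any model of the localization) is free over every commutative ring `L`. -/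
theorem free_GL_of_isLocalization (n : ℕ) (L : Type*) [CommRing L] (S : Type*) [CommRing S]
    [Algebra (MvPolynomial (Fin n × Fin n) L) S] [Algebra L S]
    [IsScalarTower L (MvPolynomial (Fin n × Fin n) L) S]
    [IsLocalization.Away
      (Matrix.det (Matrix.of fun i j ↦ (MvPolynomial.X (i, j) : MvPolynomial (Fin n × Fin n) L))) S] :
    Module.Free L S :=
  free_GL_of_algebra n ℤ L S

/-- `O(GL_n)` is free over every commutative ring `L`. -/
theorem free_GL (n : ℕ) (L : Type*) [CommRing L] :
    Module.Free L (Localization.Away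
      (Matrix.det (Matrix.of fun i j ↦ (MvPolynomial.X (i, j) : MvPolynomial (Fin n × Fin n) L)))) :=
  free_GL_of_isLocalization n L _

/-- `O(Stab)`, `Stab` the stabilizer of the unimodular vector `e_1` in `GL_(n+1)`, i.e. `O(GL_n)` with `m = n` further
variables (the first row), is free over `L`. -/
theorem free_stab (n m : ℕ) (L : Type*) [CommRing L] :
    Module.Free L (MvPolynomial (Fin m) (Localization.Away
      (Matrix.det (Matrix.of fun i j ↦ (MvPolynomial.X (i, j) : MvPolynomial (Fin n × Fin n) L))))) := by
  have := free_GL n L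
  exact Module.Free.trans (S := Localization.Away
      (Matrix.det (Matrix.of fun i j ↦ (MvPolynomial.X (i, j) : MvPolynomial (Fin n × Fin n) L))))

end GL

end Groth.Agent.ResProp.EF.K217
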